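import Groth.Agent.PullbackMod.Sections
import Groth.Agent.PullbackMod.Hom
import Groth.Agent.FlatLocus.ModInjFlat
import Groth.Agent.QCohLib.Push
import Groth.Agent.FibreVanishQC.BaseChange
import Groth.Agent.DevLib.Closed

/-!
# Stalks of the unit along an affine morphism
-/

set_option autoImplicit false
set_option backward.isDefEq.respectTransparency false
set_option backward.isDefEq.respectTransparency.types false
set_option linter.style.haveILetI false
set_option maxHeartbeats 800000
set_option synthInstance.maxHeartbeats 100000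

universe u

open CategoryTheory CategoryTheory.Limits AlgebraicGeometry TopologicalSpace Opposite
open scoped TensorProduct
open Groth.Agent.PullbackMod Groth.Agent.CohBase Groth.Agent.QCohLib

noncomputable section

namespace Groth.Agent.TFNodeLib

variable {X Y : Scheme.{u}} (π : Y ⟶ X) (x : X)

/-- The direct image of the structure module. -/
abbrev pushO : X.Modules := (Scheme.Modules.pushforward π).obj (Coh.structureModule Y)

/-- The unit element in the stalk of the direct image of the structure module. -/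
def oneP : (pushO π).presheaf.stalk x :=
  (pushO π).presheaf.germ ⊤ x trivial (show Γ(pushO π, ⊤) from (1 : Γ(Y, π ⁻¹ᵁ ⊤)))

theorem oneP_eq (V : X.Opens) (hx : x ∈ V) :
    (pushO π).presheaf.germ V x hx (show Γ(pushO π, V) from (1 : Γ(Y, π ⁻¹ᵁ V))) = oneP π x := by
  rw [oneP, ← TopCat.Presheaf.germ_res_apply (pushO π).presheaf (homOfLE (le_top : V ≤ ⊤)) x hx]
  exact congrArg _ (map_one (Y.presheaf.map (homOfLE (π.preimage_mono (le_top : V ≤ ⊤))).op).hom).symm

variable [IsAffineHom π] (F : X.Modules) [Coh.IsQCoh F]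

/-- The stalk of `π_* π^* F` is the stalk of `F` tensored with that of `π_* O`, compatibly with the unit. -/
theorem exists_pushPull_stalk_equiv :
    ∃ Φ : (pushO π).presheaf.stalk x ⊗[X.presheaf.stalk x] F.presheaf.stalk x ≃ₗ[X.presheaf.stalk x]
        ((Scheme.Modules.pushforward π).obj ((Scheme.Modules.pullback π).obj F)).presheaf.stalk x,
      ∀ z, Φ (oneP π x ⊗ₜ z) =
        stalkLin ((Scheme.Modules.pullbackPushforwardAdjunction π).unit.app F) x z := by
  obtain ⟨_, ⟨V : X.Opens, hV, rfl⟩, hx, -⟩ :=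
    X.isBasis_affineOpens.exists_subset_of_mem_open (Set.mem_univ x) isOpen_univ
  haveI : Coh.IsQCoh (Coh.structureModule Y) := (DevLib.isCoh_structureModule Y).1
  haveI : Coh.IsQCoh ((Scheme.Modules.pullback π).obj F) := PullbackMod.isQCoh_pullback π F
  let G := (Scheme.Modules.pushforward π).obj ((Scheme.Modules.pullback π).obj F)
  haveI : Coh.IsQCoh G := QCohLib.isQCoh_pushforward _ π
  haveI : Coh.IsQCoh (pushO π) := QCohLib.isQCoh_pushforward _ π
  let η := (Scheme.Modules.pullbackPushforwardAdjunction π).unit.app F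
  let W := π ⁻¹ᵁ V
  have hW : IsAffineOpen W := hV.preimage π
  let A := Γ(X, V)
  let O := X.presheaf.stalk x
  have hA : π.appLE V W le_rfl = π.app V := by simp [Scheme.Hom.appLE, W]
  -- over the affine open
  letI : Algebra A Γ(Y, W) := (π.appLE V W le_rfl).hom.toAlgebra
  letI := Module.compHom Γ((Scheme.Modules.pullback π).obj F, W) (π.appLE V W le_rfl).hom
  haveI : IsScalarTower A Γ(Y, W) Γ((Scheme.Modules.pullback π).obj F, W) := .of_algebraMap_smul fun _ _ => rfl
  have hb : IsBaseChange Γ(Y, W) (pullMapL π F (le_refl W)) := isBaseChange_pullMapL π F hV hW le_rfl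
  let σ : Γ(pushO π, V) ≃ₗ[A] Γ(Y, W) :=
    { AddEquiv.refl Γ(Y, W) with
      map_smul' := fun r b => by
        let b' : Γ(Y, W) := b
        show π.app V r * b' = π.appLE V W le_rfl r * b'
        rw [hA] }
  let τ : Γ(G, V) ≃ₗ[A] Γ((Scheme.Modules.pullback π).obj F, W) :=
    { AddEquiv.refl Γ((Scheme.Modules.pullback π).obj F, W) with
      map_smul' := fun r b => by
        let b' : Γ((Scheme.Modules.pullback π).obj F, W) := b
        show π.app V r • b' = π.appLE V W le_rfl r • b'
        rw [hA] }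
  let θ : Γ(pushO π, V) ⊗[A] Γ(F, V) ≃ₗ[A] Γ(G, V) :=
    TensorProduct.congr σ (LinearEquiv.refl A _) ≪≫ₗ hb.equiv.restrictScalars A ≪≫ₗ τ.symm
  have hθ : ∀ m, θ ((show Γ(pushO π, V) from (1 : Γ(Y, W))) ⊗ₜ m) = η.app V m := fun m => by
    show hb.equiv ((1 : Γ(Y, W)) ⊗ₜ m) = _
    rw [IsBaseChange.equiv_tmul, one_smul]
    show ((Scheme.Modules.pullback π).obj F).presheaf.map (homOfLE (le_refl W)).op (η.app V m) = η.app V m
    exact restr_self _ _ _
  -- localisation
  letI algO : Algebra A O := TopCat.Presheaf.algebra_section_stalk X.presheaf ⟨x, hx⟩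
  haveI : IsLocalization.AtPrime O (hV.primeIdealOf ⟨x, hx⟩).asIdeal := hV.isLocalization_stalk ⟨x, hx⟩
  letI := Module.compHom ((pushO π).presheaf.stalk x) (X.presheaf.germ V x hx).hom
  letI := Module.compHom (F.presheaf.stalk x) (X.presheaf.germ V x hx).hom
  letI := Module.compHom (G.presheaf.stalk x) (X.presheaf.germ V x hx).hom
  haveI : IsScalarTower A O ((pushO π).presheaf.stalk x) := .of_algebraMap_smul fun _ _ => rfl
  haveI : IsScalarTower A O (F.presheaf.stalk x) := .of_algebraMap_smul fun _ _ => rfl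
  haveI : IsScalarTower A O (G.presheaf.stalk x) := .of_algebraMap_smul fun _ _ => rfl
  haveI := FlatLocus.isLocalizedModule_germL (pushO π) hV x hx
  haveI := FlatLocus.isLocalizedModule_germL F hV x hx
  haveI := FlatLocus.isLocalizedModule_germL G hV x hx
  let jP := (IsLocalizedModule.isBaseChange (hV.primeIdealOf ⟨x, hx⟩).asIdeal.primeCompl O
    (FlatLocus.germL (pushO π) V x hx))
  let jF := (IsLocalizedModule.isBaseChange (hV.primeIdealOf ⟨x, hx⟩).asIdeal.primeCompl O
    (FlatLocus.germL F V x hx))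
  let jG := (IsLocalizedModule.isBaseChange (hV.primeIdealOf ⟨x, hx⟩).asIdeal.primeCompl O
    (FlatLocus.germL G V x hx))
  let Φ : (pushO π).presheaf.stalk x ⊗[O] F.presheaf.stalk x ≃ₗ[O] G.presheaf.stalk x :=
    TensorProduct.congr jP.equiv.symm jF.equiv.symm ≪≫ₗ
      (TensorProduct.AlgebraTensorModule.distribBaseChange A O Γ(pushO π, V) Γ(F, V)).symm ≪≫ₗ
      θ.baseChange A O _ _ ≪≫ₗ jG.equiv
  refine ⟨Φ, fun z => ?_⟩
  have key : ∀ m, Φ (oneP π x ⊗ₜ F.presheaf.germ V x hx m) = stalkLin η x (F.presheaf.germ V x hx m) := fun m => by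
    have h1 : jP.equiv.symm (oneP π x) = (1 : O) ⊗ₜ[A] (show Γ(pushO π, V) from (1 : Γ(Y, W))) := by
      rw [LinearEquiv.symm_apply_eq, IsBaseChange.equiv_tmul, one_smul]
      exact (oneP_eq π x V hx).symm
    have h2 : jF.equiv.symm (F.presheaf.germ V x hx m) = (1 : O) ⊗ₜ[A] m := by
      rw [LinearEquiv.symm_apply_eq, IsBaseChange.equiv_tmul, one_smul]
      rfl
    simp only [Φ, LinearEquiv.trans_apply, TensorProduct.congr_tmul, h1, h2]
    rw [show (TensorProduct.AlgebraTensorModule.distribBaseChange A O Γ(pushO π, V) Γ(F, V)).symm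
        (((1 : O) ⊗ₜ[A] (show Γ(pushO π, V) from (1 : Γ(Y, W)))) ⊗ₜ[O] ((1 : O) ⊗ₜ[A] m)) =
      (1 : O) ⊗ₜ[A] ((show Γ(pushO π, V) from (1 : Γ(Y, W))) ⊗ₜ[A] m) from by simp]
    rw [LinearEquiv.baseChange_tmul, IsBaseChange.equiv_tmul, one_smul, hθ]
    exact (stalkLin_germ η x hx m).symm
  have hlin : Φ.toLinearMap ∘ₗ TensorProduct.mk O _ _ (oneP π x) = stalkLin η x :=
    jF.algHom_ext _ _ fun m => key m
  exact LinearMap.congr_fun hlin z

end Groth.Agent.TFNodeLib
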