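import Groth.Agent.TFNodeLib.Alg
import Groth.Agent.TFNodeLib.Stalk
import Groth.Agent.FactorBetaLib.Main
import Groth.Agent.DeltaBCLib.Genus
import Groth.Agent.NormNodeLib.Branches
import Groth.Agent.S11567
import Groth.Agent.AlterN1.Basic
import Groth.Agent.NilPushLib.Basic
import Groth.Agent.DCohLib.ClosedPush

/-!
# The unit and its torsion free quotient on a nodal curve
-/

set_option autoImplicit false
set_option backward.isDefEq.respectTransparency false
set_option backward.isDefEq.respectTransparency.types false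
set_option linter.style.haveILetI false
set_option linter.unusedSectionVars false
set_option maxHeartbeats 1000000
set_option synthInstance.maxHeartbeats 200000

universe u

open CategoryTheory CategoryTheory.Limits AlgebraicGeometry TopologicalSpace Opposite IsLocalRing
open Groth.Agent.PullbackMod
open scoped TensorProduct

noncomputable section

namespace Groth.Agent.TFNodeLib

section Generic

variable {X : Scheme.{u}}

/-- Components of a connected noetherian space of dimension one have dimension one. -/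
theorem comps_one [IsNoetherian X] [ConnectedSpace X] (hdim : topologicalKrullDim X = 1) :
    ∀ Z ∈ irreducibleComponents (X : Type u), topologicalKrullDim Z = 1 := by
  intro Z hZ
  have hle : topologicalKrullDim Z ≤ 1 :=
    hdim ▸ (Topology.IsInducing.subtypeVal (t := Z)).topologicalKrullDim_le
  obtain ⟨η, hη⟩ := QuasiSober.sober hZ.1 (isClosed_of_mem_irreducibleComponents _ hZ)
  refine le_antisymm hle ?_
  by_contra hlt
  have hZc : IsClosed Z := isClosed_of_mem_irreducibleComponents _ hZ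
  have hsub : Z = {η} := by
    refine Set.eq_singleton_iff_unique_mem.2 ⟨hη.mem, fun w hw => ?_⟩
    by_contra hne
    refine hlt (Order.one_le_krullDim_iff.2 ?_)
    let A : TopologicalSpace.IrreducibleCloseds Z := ⟨closure {⟨w, hw⟩}, isIrreducible_singleton.closure, isClosed_closure⟩
    let B : TopologicalSpace.IrreducibleCloseds Z := ⟨closure {⟨η, hη.mem⟩}, isIrreducible_singleton.closure, isClosed_closure⟩
    have hAB : A ≤ B := by
      refine closure_minimal (Set.singleton_subset_iff.2 ?_) isClosed_closure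
      exact specializes_iff_mem_closure.1 ((Topology.IsInducing.subtypeVal).specializes_iff.1
        (hη.specializes hw))
    refine ⟨A, B, lt_of_le_of_ne hAB fun h => hne ?_⟩
    have h' : (⟨η, hη.mem⟩ : Z) ∈ closure ({⟨w, hw⟩} : Set Z) :=
      (congrArg (fun C : TopologicalSpace.IrreducibleCloseds Z => (C : Set Z)) h).ge (subset_closure rfl)
    exact (((hη.specializes hw).antisymm
      ((Topology.IsInducing.subtypeVal).specializes_iff.2 (specializes_iff_mem_closure.2 h'))).eq).symm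
  have hW : IsClosed (⋃₀ (irreducibleComponents (X : Type u) \ {Z})) := by
    rw [Set.sUnion_eq_biUnion]
    exact (TopologicalSpace.NoetherianSpace.finite_irreducibleComponents.subset Set.sdiff_subset).isClosed_biUnion
      fun T hT => isClosed_of_mem_irreducibleComponents _ hT.1
  have hcompl : Z = (⋃₀ (irreducibleComponents (X : Type u) \ {Z}))ᶜ := by
    refine Set.ext fun v => ⟨fun hv ⟨T, ⟨hT, hTne⟩, hvT⟩ => ?_, fun hv => ?_⟩
    · refine hTne (le_antisymm (hZ.2 hT.1 ?_) ?_)
      · intro w hw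
        rw [hsub, Set.mem_singleton_iff] at hv hw
        rwa [hw, ← hv]
      · intro w hw
        rw [hsub, Set.mem_singleton_iff] at hv hw
        rwa [hw, ← hv]
    · obtain ⟨T, hT, hvT⟩ : ∃ T ∈ irreducibleComponents (X : Type u), v ∈ T :=
        ⟨irreducibleComponent v, irreducibleComponent_mem_irreducibleComponents v, mem_irreducibleComponent⟩
      by_contra hvZ
      exact hv ⟨T, ⟨hT, fun h => hvZ (h ▸ hvT)⟩, hvT⟩
  have huniv : Z = Set.univ := IsClopen.eq_univ ⟨hZc, hcompl ▸ hW.isOpen_compl⟩ hZ.1.1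
  have h0 := topologicalKrullDim_zero_of_discreteTopology ({η} : Set X)
  rw [← hsub, huniv, (Homeomorph.Set.univ X).isHomeomorph.topologicalKrullDim_eq, hdim] at h0
  exact absurd h0 (by norm_num)

/-- Stalks of a cokernel are quotients of stalks. -/
def cokerStalkEquiv {M N : X.Modules} (φ : M ⟶ N) (x : X) :
    (N.presheaf.stalk x ⧸ LinearMap.range (stalkLin φ x)) ≃ₗ[X.presheaf.stalk x] (cokernel φ).presheaf.stalk x :=
  Submodule.quotEquivOfEq _ _ (LinearMap.exact_iff.1 (DCohLib.exact_stalkLin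
    (ShortComplex.mk φ (cokernel.π φ) (cokernel.condition φ)) (ShortComplex.exact_cokernel φ) x)).symm ≪≫ₗ
    (stalkLin (cokernel.π φ) x).quotKerEquivOfSurjective ((epi_iff_stalk _).1 inferInstance x)

/-- A section of a locally free module of a reduced scheme with vanishing germs on a dense open vanishes. -/
theorem eq_zero_of_dense {Y : Scheme.{u}} [IsReduced Y] {E : Y.Modules} (hE : FlatMod.IsFinLocFree E) {V : Y.Opens}
    (hV : Dense (V : Set Y)) {W : Y.Opens} (t : Γ(E, W))
    (h : ∀ y (hy : y ∈ W), y ∈ V → E.presheaf.germ W y hy t = 0) : t = 0 := by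
  refine TopCat.Presheaf.section_ext (⟨E.presheaf, E.isSheaf⟩ : TopCat.Sheaf Ab Y) W _ _ fun y hy => ?_
  show E.presheaf.germ W y hy t = E.presheaf.germ W y hy 0
  rw [map_zero]
  obtain ⟨U, n, hyU, ⟨e⟩⟩ := hE y
  set W' : (U : Scheme.{u}).Opens := U.ι ⁻¹ᵁ W with hW'
  have hle : U.ι ''ᵁ W' ≤ W := U.ι.image_preimage_le W
  let s : Γ(E, U.ι ''ᵁ W') := E.presheaf.map (homOfLE hle).op t
  have hy' : y ∈ U.ι ''ᵁ W' := ⟨⟨y, hyU⟩, hy, rfl⟩
  rw [← TopCat.Presheaf.germ_res_apply E.presheaf (homOfLE hle) y hy']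
  have hV' : Dense ((U.ι ⁻¹ᵁ V : (U : Scheme.{u}).Opens) : Set (U : Scheme.{u})) :=
    hV.preimage U.ι.isOpenEmbedding.isOpenMap
  have hs : s = 0 := by
    refine FactorBetaLib.section_eq_zero_free e hV' (W := W') s ?_
    refine TopCat.Presheaf.section_ext (⟨E.presheaf, E.isSheaf⟩ : TopCat.Sheaf Ab Y)
      (U.ι ''ᵁ (W' ⊓ U.ι ⁻¹ᵁ V)) _ _ fun z hz => ?_
    show E.presheaf.germ (U.ι ''ᵁ (W' ⊓ U.ι ⁻¹ᵁ V)) z hz (E.presheaf.map (homOfLE (U.ι.image_mono inf_le_left)).op s) =
      E.presheaf.germ (U.ι ''ᵁ (W' ⊓ U.ι ⁻¹ᵁ V)) z hz 0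
    rw [map_zero]
    obtain ⟨z', ⟨hz1, hz2⟩, rfl⟩ := hz
    refine (TopCat.Presheaf.germ_res_apply E.presheaf _ _ _ _).trans ?_
    refine (TopCat.Presheaf.germ_res_apply E.presheaf (homOfLE hle) _ ⟨z', hz1, rfl⟩ _).trans ?_
    exact h _ hz1 hz2
  show E.presheaf.germ _ y hy' s = 0
  rw [hs, map_zero]

/-- Direct images of epimorphisms along affine morphisms are surjective on stalks. -/
theorem surjective_stalk_push {Y : Scheme.{u}} (π : Y ⟶ X) [IsAffineHom π] {M N : Y.Modules} (hM : Coh.IsQCoh M)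
    (hN : Coh.IsQCoh N) (p : M ⟶ N) [Epi p] (x : X) :
    Function.Surjective (stalkLin ((Scheme.Modules.pushforward π).map p) x) := fun z => by
  obtain ⟨V1, hx1, t, rfl⟩ := TopCat.Presheaf.exists_germ_eq _ z
  obtain ⟨_, ⟨V2 : X.Opens, (hV2 : IsAffineOpen V2), rfl⟩, hx2, hle⟩ :=
    X.isBasis_affineOpens.exists_subset_of_mem_open hx1 V1.2
  let N' := (Scheme.Modules.pushforward π).obj N
  obtain ⟨m, hm⟩ := NilPushLib.surjective_app_of_epi hM hN p (hV2.preimage π)
    (show Γ(N, π ⁻¹ᵁ V2) from N'.presheaf.map (homOfLE hle).op t)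
  refine ⟨((Scheme.Modules.pushforward π).obj M).presheaf.germ V2 x hx2 m, ?_⟩
  rw [stalkLin_germ, ← TopCat.Presheaf.germ_res_apply N'.presheaf (homOfLE hle) x hx2]
  exact congrArg _ hm

end Generic

section Curve

variable {X Y : Scheme.{u}} [IsReduced X] [IsReduced Y] [IsLocallyNoetherian X] (π : Y ⟶ X) [IsFinite π]
  (hY : Pi1.IsNormalScheme Y) (U : X.Opens) (hU : Dense (U : Set X))
  (hU' : Dense ((π ⁻¹ᵁ U : Y.Opens) : Set Y)) (hπU : IsIso (π ∣_ U))

include π in
theorem range_structMap (x : X) :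
    LinearMap.range (stalkLin (FibreVanishQC.structMap π) x) =
      Submodule.span (X.presheaf.stalk x) {oneP π x} := by
  apply le_antisymm
  · rintro _ ⟨z, rfl⟩
    obtain ⟨V, hx, a, rfl⟩ := TopCat.Presheaf.exists_germ_eq _ z
    rw [Submodule.mem_span_singleton]
    refine ⟨X.presheaf.germ V x hx a, ?_⟩
    rw [stalkLin_germ, ← oneP_eq π x V hx]
    refine (PresheafOfModules.germ_smul (R := X.presheaf) (pushO π).val x V hx a _).symm.trans ?_
    exact congrArg _ (mul_one (π.app V a))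
  · rw [Submodule.span_le, Set.singleton_subset_iff]
    refine ⟨(Coh.structureModule X).presheaf.germ ⊤ x trivial (1 : Γ(X, ⊤)), ?_⟩
    rw [stalkLin_germ]
    exact congrArg _ (map_one (π.app ⊤).hom)

include hU hπU in
theorem inj_oneP (x : X) (r : X.presheaf.stalk x) (hr : r • oneP π x = 0) : r = 0 := by
  haveI := DeltaBC.mono_structMap π U hU hπU
  obtain ⟨V, hx, a, rfl⟩ := TopCat.Presheaf.exists_germ_eq X.presheaf r
  have h1 : stalkLin (FibreVanishQC.structMap π) x ((Coh.structureModule X).presheaf.germ V x hx a) = 0 := by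
    rw [← hr, stalkLin_germ, ← oneP_eq π x V hx]
    refine Eq.trans ?_ (PresheafOfModules.germ_smul (R := X.presheaf) (pushO π).val x V hx a _)
    exact congrArg _ (mul_one (π.app V a)).symm
  have h2 := (mono_iff_stalk _).1 inferInstance x (h1.trans (map_zero _).symm)
  obtain ⟨V', hx', i, i', he⟩ := TopCat.Presheaf.germ_eq (Coh.structureModule X).presheaf x hx hx a 0
    (h2.trans (map_zero _).symm)
  rw [← X.presheaf.germ_res_apply i x hx' a]
  exact (congrArg (X.presheaf.germ V' x hx') (he.trans (map_zero _))).trans (map_zero _)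

include hY hU hU' hπU in
theorem length_quot_oneP (x : X) :
    Module.length (X.presheaf.stalk x) ((pushO π).presheaf.stalk x ⧸ Submodule.span (X.presheaf.stalk x) {oneP π x}) =
      Curv2.deltaInv (X.presheaf.stalk x) := by
  rw [← range_structMap π x, (cokerStalkEquiv (FibreVanishQC.structMap π) x).length_eq]
  exact DeltaBC.length_coker_stalk π hY U hU hU' hπU x

include hY hU hU' hπU in
theorem bijective_oneP {x : X} (hx : x ∈ U) :
    Function.Bijective (LinearMap.toSpanSingleton (X.presheaf.stalk x) ((pushO π).presheaf.stalk x) (oneP π x)) := by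
  refine ⟨(injective_iff_map_eq_zero _).2 (inj_oneP π U hU hπU x), ?_⟩
  have h := length_quot_oneP π hY U hU hU' hπU x
  rw [DeltaBC.deltaInv_eq_zero_of_mem π hY U hU hU' hπU hx, Module.length_eq_zero_iff,
    Submodule.Quotient.subsingleton_iff] at h
  rw [← LinearMap.range_eq_top, LinearMap.range_toSpanSingleton]
  exact h

include hU hU' hπU in
/-- An element of the maximal ideal of a point outside `U`, invertible only inside `U`, over which the open `U`
stays dense. -/
theorem exists_nzd_nhd {x : X} (hx : x ∉ U) :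
    ∃ (V : X.Opens) (_ : IsAffineOpen V) (hxV : x ∈ V) (a : Γ(X, V)),
      X.presheaf.germ V x hxV a ∈ maximalIdeal (X.presheaf.stalk x) ∧ X.basicOpen a ≤ U ∧
      ∀ O' : Y.Opens, O' ≤ π ⁻¹ᵁ V → (O' : Set Y).Nonempty →
        ((O' ⊓ π ⁻¹ᵁ X.basicOpen a : Y.Opens) : Set Y).Nonempty := by
  classical
  haveI := hπU
  obtain ⟨_, ⟨V : X.Opens, hV, rfl⟩, hxV, -⟩ :=
    X.isBasis_affineOpens.exists_subset_of_mem_open (Set.mem_univ x) isOpen_univ
  let R := Γ(X, V)
  haveI : IsNoetherianRing R := IsLocallyNoetherian.component_noetherian ⟨V, hV⟩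
  let Z : Set (PrimeSpectrum R) := hV.fromSpec ⁻¹' ((U : Set X)ᶜ)
  have hZ : IsClosed Z := U.2.isClosed_compl.preimage hV.fromSpec.continuous
  obtain ⟨I, hI⟩ := (PrimeSpectrum.isClosed_iff_zeroLocus_ideal Z).1 hZ
  have hfin := (⊥ : Ideal R).finite_minimalPrimes_of_isNoetherianRing R
  obtain ⟨s, hsI, hs⟩ : ∃ s ∈ I, ∀ p ∈ minimalPrimes R, s ∉ p := by
    by_contra hne
    push Not at hne
    obtain ⟨P, hP, hPle⟩ := (Ideal.subset_union_prime (s := hfin.toFinset) (f := fun P => P) (I := I)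
      ⊥ ⊥ fun P hP _ _ => (hfin.mem_toFinset.1 hP).1.1).1 fun a ha => by
        obtain ⟨η, hη, haη⟩ := hne a ha
        exact Set.mem_iUnion₂.2 ⟨η, Finset.mem_coe.2 (hfin.mem_toFinset.2 hη), haη⟩
    have hPm := hfin.mem_toFinset.1 hP
    let η : PrimeSpectrum R := ⟨P, hPm.1.1⟩
    have hηZ : η ∈ Z := hI.ge hPle
    let O : Set (PrimeSpectrum R) := (⋃ q ∈ (hfin.toFinset.erase P : Set (Ideal R)), PrimeSpectrum.zeroLocus (q : Set R))ᶜ
    have hO : IsOpen O := ((Finset.finite_toSet _).isClosed_biUnion fun q _ => PrimeSpectrum.isClosed_zeroLocus _).isOpen_compl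
    have hηO : η ∈ O := fun h => by
      obtain ⟨q, hq, hqη⟩ := Set.mem_iUnion₂.1 h
      have hq' := Finset.mem_erase.1 hq
      exact hq'.1 (le_antisymm hqη (hPm.2 (hfin.mem_toFinset.1 hq'.2).1 hqη))
    obtain ⟨w, hwO, hwU⟩ := hU.inter_open_nonempty (hV.fromSpec '' O) (hV.fromSpec.isOpenEmbedding.isOpenMap O hO)
      ⟨_, η, hηO, rfl⟩
    obtain ⟨w, hw, rfl⟩ := hwO
    have hηw : η ⤳ w := by
      obtain ⟨q, hq, hqw⟩ := Ideal.exists_minimalPrimes_le (bot_le : (⊥ : Ideal R) ≤ w.asIdeal)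
      rw [← PrimeSpectrum.le_iff_specializes]
      have : q = P := by
        by_contra hne'
        exact hw (Set.mem_iUnion₂.2 ⟨q, Finset.mem_coe.2 (Finset.mem_erase.2 ⟨hne', hfin.mem_toFinset.2 hq⟩), hqw⟩)
      exact show P ≤ w.asIdeal from this ▸ hqw
    exact hηZ ((hηw.map hV.fromSpec.continuous).mem_open U.2 hwU)
  have hDU : X.basicOpen s ≤ U := fun y hy => by
    by_contra hyU
    have hyV := X.basicOpen_le s hy
    have hmem : hV.primeIdealOf ⟨y, hyV⟩ ∈ Z := by
      show hV.fromSpec _ ∈ (U : Set X)ᶜ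
      rw [hV.fromSpec_primeIdealOf]; exact hyU
    rw [hI] at hmem
    have h1 : (hV.primeIdealOf ⟨y, hyV⟩) ∈ hV.fromSpec ⁻¹ᵁ X.basicOpen s := by
      show hV.fromSpec _ ∈ X.basicOpen s
      rw [hV.fromSpec_primeIdealOf]; exact hy
    rw [hV.fromSpec_preimage_basicOpen] at h1
    exact h1 (hmem hsI)
  refine ⟨V, hV, hxV, s, ?_, hDU, fun O' hO' hne => ?_⟩
  · rw [mem_maximalIdeal, mem_nonunits_iff, ← X.mem_basicOpen s x hxV]
    exact fun h => hx (hDU h)
  · obtain ⟨z, hzO, hzU⟩ := hU'.inter_open_nonempty _ O'.2 hne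
    have hzV : π z ∈ V := hO' hzO
    obtain ⟨q, hq, hqz⟩ : ∃ q ∈ minimalPrimes R, q ≤ (hV.primeIdealOf ⟨π z, hzV⟩).asIdeal :=
      Ideal.exists_minimalPrimes_le bot_le
    let η : X := hV.fromSpec ⟨q, hq.1.1⟩
    have hηz : η ⤳ π z := by
      have h := (((PrimeSpectrum.le_iff_specializes (⟨q, hq.1.1⟩ : PrimeSpectrum R) (hV.primeIdealOf ⟨π z, hzV⟩)).1 hqz)).map hV.fromSpec.continuous
      rwa [hV.fromSpec_primeIdealOf] at h
    have hηU : η ∈ U := hηz.mem_open U.2 hzU
    obtain ⟨⟨w, hw⟩, hwη⟩ := (π ∣_ U).homeomorph.surjective ⟨η, hηU⟩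
    have hπw : π w = η := by
      have := congrArg Subtype.val hwη
      rwa [Scheme.Hom.homeomorph_apply, morphismRestrict_base] at this
    have hwz : (⟨w, hw⟩ : (π ⁻¹ᵁ U).toScheme) ⤳ ⟨z, hzU⟩ := by
      refine (π ∣_ U).homeomorph.isInducing.specializes_iff.1 ?_
      refine (Topology.IsInducing.subtypeVal.specializes_iff).1 ?_
      rw [show ((π ∣_ U).homeomorph ⟨w, hw⟩).1 = π w by rw [Scheme.Hom.homeomorph_apply, morphismRestrict_base]; rfl,
        show ((π ∣_ U).homeomorph ⟨z, hzU⟩).1 = π z by rw [Scheme.Hom.homeomorph_apply, morphismRestrict_base]; rfl, hπw]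
      exact hηz
    refine ⟨w, (hwz.map continuous_subtype_val).mem_open O'.2 hzO, ?_⟩
    show π w ∈ X.basicOpen s
    rw [hπw]
    have hqs : (⟨q, hq.1.1⟩ : PrimeSpectrum R) ∈ hV.fromSpec ⁻¹ᵁ X.basicOpen s := by
      rw [hV.fromSpec_preimage_basicOpen]; exact hs q hq
    exact hqs

include hU' hπU in
/-- The element is regular on direct images of locally free modules. -/
theorem reg_push {x : X} {V : X.Opens} (hxV : x ∈ V) (a : Γ(X, V))
    (hden : ∀ O' : Y.Opens, O' ≤ π ⁻¹ᵁ V → (O' : Set Y).Nonempty →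
        ((O' ⊓ π ⁻¹ᵁ X.basicOpen a : Y.Opens) : Set Y).Nonempty)
    {E : Y.Modules} (hE : FlatMod.IsFinLocFree E)
    (z : ((Scheme.Modules.pushforward π).obj E).presheaf.stalk x)
    (hz : X.presheaf.germ V x hxV a • z = 0) : z = 0 := by
  let P := (Scheme.Modules.pushforward π).obj E
  obtain ⟨V1, hx1, t, rfl⟩ := TopCat.Presheaf.exists_germ_eq P.presheaf z
  have hx' : x ∈ V ⊓ V1 := ⟨hxV, hx1⟩
  rw [← X.presheaf.germ_res_apply (homOfLE (inf_le_left : V ⊓ V1 ≤ V)) x hx' a,
    ← P.presheaf.germ_res_apply (homOfLE (inf_le_right : V ⊓ V1 ≤ V1)) x hx' t] at hz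
  rw [← P.presheaf.germ_res_apply (homOfLE (inf_le_right : V ⊓ V1 ≤ V1)) x hx' t]
  generalize P.presheaf.map (homOfLE (inf_le_right : V ⊓ V1 ≤ V1)).op t = t' at hz ⊢
  erw [← PresheafOfModules.germ_smul (R := X.presheaf) P.val x (V ⊓ V1) hx'] at hz
  obtain ⟨V2, hx2, i, i', he⟩ := TopCat.Presheaf.germ_eq P.presheaf x hx' hx' _ 0 (hz.trans (map_zero _).symm)
  rw [← P.presheaf.germ_res_apply i x hx2 t']
  suffices h : (show Γ(E, π ⁻¹ᵁ V2) from P.presheaf.map i.op t') = 0 by
    exact (congrArg (P.presheaf.germ V2 x hx2) h).trans (map_zero _)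
  let a' : Γ(X, V2) := X.presheaf.map (homOfLE (i.le.trans inf_le_left)).op a
  have h0 : π.app V2 a' • (show Γ(E, π ⁻¹ᵁ V2) from P.presheaf.map i.op t') = 0 := by
    rw [map_zero] at he
    refine Eq.trans ?_ he
    refine Eq.trans ?_ (P.val.map_smul i.op _ _).symm
    refine congrArg (fun c : Γ(X, V2) => π.app V2 c • (show Γ(E, π ⁻¹ᵁ V2) from P.presheaf.map i.op t')) ?_
    show X.presheaf.map _ a = X.presheaf.map i.op (X.presheaf.map _ a)
    rw [← CategoryTheory.comp_apply, ← Functor.map_comp]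
    rfl
  let Vd : Y.Opens := π ⁻¹ᵁ X.basicOpen a ⊔ ⟨(closure ((π ⁻¹ᵁ V : Y.Opens) : Set Y))ᶜ, isClosed_closure.isOpen_compl⟩
  have hVd : Dense (Vd : Set Y) := dense_iff_inter_open.2 fun O hO hne => by
    by_cases hmeet : ((⟨O, hO⟩ ⊓ π ⁻¹ᵁ V : Y.Opens) : Set Y).Nonempty
    · obtain ⟨w, hw, hw'⟩ := hden _ inf_le_right hmeet
      exact ⟨w, hw.1, Or.inl hw'⟩
    · obtain ⟨w, hw⟩ := hne
      refine ⟨w, hw, Or.inr fun hcl => hmeet ?_⟩
      obtain ⟨v, hv, hv'⟩ := mem_closure_iff.1 hcl O hO hw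
      exact ⟨v, hv, hv'⟩
  refine eq_zero_of_dense hE hVd _ fun w hw hwd => ?_
  rcases hwd with hwd | hwd
  · have h1 := congrArg (E.presheaf.germ (π ⁻¹ᵁ V2) w hw) h0
    erw [PresheafOfModules.germ_smul (R := Y.presheaf) E.val w (π ⁻¹ᵁ V2) hw] at h1
    rw [map_zero] at h1
    have hu : IsUnit (Y.presheaf.germ (π ⁻¹ᵁ V2) w hw (π.app V2 a')) := by
      rw [← Y.mem_basicOpen _ w hw, ← Scheme.preimage_basicOpen]
      show π w ∈ X.basicOpen a'
      rw [Scheme.basicOpen_res]
      exact ⟨hw, hwd⟩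
    exact hu.smul_eq_zero.1 h1
  · exact absurd (subset_closure (π.preimage_mono (i.le.trans inf_le_left) hw)) hwd

/-- A morphism which is injective at the points where `a` is invertible has kernel killed by powers of `a`. -/
theorem exists_pow_kill {x : X} {V : X.Opens} (hxV : x ∈ V) (a : Γ(X, V)) {M N : X.Modules} [Coh.IsQCoh M]
    (φ : M ⟶ N) (h : ∀ v ∈ X.basicOpen a, Function.Injective (stalkLin φ v)) (z : M.presheaf.stalk x)
    (hz : stalkLin φ x z = 0) : ∃ n : ℕ, X.presheaf.germ V x hxV a ^ n • z = 0 := by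
  obtain ⟨V1, hx1, t, rfl⟩ := TopCat.Presheaf.exists_germ_eq M.presheaf z
  rw [stalkLin_germ] at hz
  obtain ⟨V2, hx2, i, i', he⟩ := TopCat.Presheaf.germ_eq N.presheaf x hx1 hx1 _ 0 (hz.trans (map_zero _).symm)
  obtain ⟨_, ⟨W : X.Opens, (hW : IsAffineOpen W), rfl⟩, hxW, hWV⟩ :=
    X.isBasis_affineOpens.exists_subset_of_mem_open (show x ∈ V2 ⊓ V from ⟨hx2, hxV⟩) (V2 ⊓ V).2
  have hW1 : W ≤ V1 := (hWV.trans inf_le_left).trans i.le
  let t' := M.presheaf.map (homOfLE hW1).op t
  let a' : Γ(X, W) := X.presheaf.map (homOfLE (hWV.trans inf_le_right)).op a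
  have hkill : M.presheaf.map (homOfLE (X.basicOpen_le a')).op t' = 0 := by
    refine TopCat.Presheaf.section_ext (⟨M.presheaf, M.isSheaf⟩ : TopCat.Sheaf Ab X) _ _ _ fun v hv => ?_
    show M.presheaf.germ _ v hv (M.presheaf.map _ t') = M.presheaf.germ _ v hv 0
    rw [map_zero]
    have hvW : v ∈ W := X.basicOpen_le a' hv
    refine (TopCat.Presheaf.germ_res_apply M.presheaf _ v hv t').trans ?_
    refine (TopCat.Presheaf.germ_res_apply M.presheaf _ v hvW t).trans (h v ?_ ?_)
    · rw [Scheme.basicOpen_res] at hv; exact hv.2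
    · rw [map_zero, stalkLin_germ]
      have hv2 : v ∈ V2 := (hWV hvW).1
      rw [← TopCat.Presheaf.germ_res_apply N.presheaf i v hv2]
      exact (congrArg (N.presheaf.germ V2 v hv2) (he.trans (map_zero _))).trans (map_zero _)
  obtain ⟨n, hn⟩ := (QCohLib.locAt M hW).kill a' t' hkill
  refine ⟨n, ?_⟩
  rw [← X.presheaf.germ_res_apply (homOfLE (hWV.trans inf_le_right)) x hxW a,
    ← TopCat.Presheaf.germ_res_apply M.presheaf (homOfLE hW1) x hxW t, ← map_pow]
  refine (PresheafOfModules.germ_smul (R := X.presheaf) M.val x W hxW _ t').symm.trans ?_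
  refine (congrArg (M.presheaf.germ W x hxW) ?_).trans (map_zero _)
  rw [CohBase.sc_apply] at hn
  refine Eq.trans ?_ hn
  refine congrArg (fun c : Γ(X, W) => c • t') ?_
  show a' ^ n = X.presheaf.map (homOfLE (le_refl W)).op (a' ^ n)
  rw [show homOfLE (le_refl W) = 𝟙 W from rfl, op_id, X.presheaf.map_id]
  rfl

end Curve

theorem notMem_oneP {X Y : Scheme.{u}} (π : Y ⟶ X) (y : Y) :
    oneP π (π y) ∉ maximalIdeal (X.presheaf.stalk (π y)) •
      (⊤ : Submodule (X.presheaf.stalk (π y)) ((pushO π).presheaf.stalk (π y))) := by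
  intro hmem
  let ψ := (LinearEquiv.ofBijective (LinearMap.toSpanSingleton (Y.presheaf.stalk y) _ (ParaFLib.oneG y))
    (ParaFLib.bijective_oneG y)).symm
  have key : ∀ z ∈ maximalIdeal (X.presheaf.stalk (π y)) •
      (⊤ : Submodule (X.presheaf.stalk (π y)) ((pushO π).presheaf.stalk (π y))),
      ψ (DCohLib.pushStalk π (Coh.structureModule Y) y z) ∈ maximalIdeal (Y.presheaf.stalk y) := fun z hz => by
    refine Submodule.smul_induction_on hz (fun r hr n _ => ?_) (fun a b ha hb => ?_)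
    · rw [DCohLib.pushStalk_smul, map_smul]
      refine Ideal.mul_mem_right _ _ ?_
      haveI : IsLocalHom (π.stalkMap y).hom := π.toLRSHom.prop y
      exact map_nonunit (π.stalkMap y).hom r hr
    · rw [map_add, map_add]; exact add_mem ha hb
  have h1 := key _ hmem
  have h2 : DCohLib.pushStalk π (Coh.structureModule Y) y (oneP π (π y)) = ParaFLib.oneG y := by
    rw [oneP]
    exact DCohLib.pushStalk_germ π (Coh.structureModule Y) y (W := ⊤) trivial _
  rw [h2, show ψ (ParaFLib.oneG y) = 1 from by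
    rw [LinearEquiv.symm_apply_eq]
    exact (one_smul (Y.presheaf.stalk y) (ParaFLib.oneG y)).symm] at h1
  exact (Ideal.ne_top_iff_one _).1 (maximalIdeal.isMaximal _).ne_top h1

section Nodal

variable (k : Type u) [Field k] [IsAlgClosed k] {X : Scheme.{u}} [X.Over (Spec (CommRingCat.of k))]
  [IsProper (X ↘ Spec (CommRingCat.of k))] [ConnectedSpace X] (hdim : topologicalKrullDim X = 1)
  (hnod : Curv2.AtWorstNodal k X) {Y : Scheme.{u}} (π : Y ⟶ X) [IsFinite π]
  [Smooth (π ≫ (X ↘ Spec (CommRingCat.of k)))] (U : X.Opens) (hU : ∀ x : X, x ∈ U ↔ ¬ Curv2.IsNode k X x)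
  (hUiso : IsIso (π ∣_ U)) (hUd : Dense ((π ⁻¹ᵁ U : Y.Opens) : Set Y))

include π hdim hnod hU in
theorem setup : IsReduced X ∧ IsReduced Y ∧ Pi1.IsNormalScheme Y ∧ Dense (U : Set X) := by
  haveI := EulerIneqLib.isNoetherian_proper (X := X) k
  have hc := comps_one hdim
  refine ⟨NodePtLib.isReduced_of_atWorstNodal hc hnod, ASp.isReduced_of_smooth (π ≫ (X ↘ Spec (CommRingCat.of k))),
    AlterN1.isNormalScheme_of_regular Y fun y =>
      ASp.isRegularLocalRing_stalk_of_smooth_field (π ≫ (X ↘ Spec (CommRingCat.of k))) y, ?_⟩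
  refine dense_iff_inter_open.2 fun O hO ⟨v, hv⟩ => ?_
  have hT := irreducibleComponent_mem_irreducibleComponents v
  obtain ⟨η, hη⟩ := QuasiSober.sober hT.1 (isClosed_of_mem_irreducibleComponents _ hT)
  refine ⟨η, (hη.specializes mem_irreducibleComponent).mem_open hO hv, (hU η).2 fun hnode => ?_⟩
  have h1 := hη.def
  rw [hnode.1.closure_eq] at h1
  have h0 := topologicalKrullDim_zero_of_discreteTopology ({η} : Set X)
  rw [h1, hc _ hT] at h0
  exact absurd h0 (by norm_num)

variable (r : ℕ) {F : X.Modules} (hF : Coh.IsCoh F) (a : X → ℕ)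
  (hfree : ∀ x : X, ¬ Curv2.IsNode k X x →
    Nonempty (F.presheaf.stalk x ≃ₗ[X.presheaf.stalk x] (Fin r → X.presheaf.stalk x)))
  (htype : ∀ x : X, Curv2.IsNode k X x → a x ≤ r ∧
    Nonempty (F.presheaf.stalk x ≃ₗ[X.presheaf.stalk x]
      ((Fin (a x) → X.presheaf.stalk x) × (Fin (r - a x) → IsLocalRing.maximalIdeal (X.presheaf.stalk x)))))

include hdim hnod hU hUiso hUd in
/-- The local algebra at a node. -/
theorem local_at_node (x : X) (hn : Curv2.IsNode k X x) :
    ∃ s : X.presheaf.stalk x, NodeMod (oneP π x) s ∧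
      Module.length (X.presheaf.stalk x) ((X.presheaf.stalk x ⧸ maximalIdeal (X.presheaf.stalk x)) ⊗[X.presheaf.stalk x]
        maximalIdeal (X.presheaf.stalk x)) = 2 ∧
      (∀ (E : Y.Modules), FlatMod.IsFinLocFree E → ∀ z : ((Scheme.Modules.pushforward π).obj E).presheaf.stalk x,
        s • z = 0 → z = 0) ∧
      ∀ (M N : X.Modules) [Coh.IsQCoh M] (φ : M ⟶ N), (∀ v ∈ U, Function.Injective (stalkLin φ v)) →
        ∀ z, stalkLin φ x z = 0 → ∃ n : ℕ, s ^ n • z = 0 := by
  haveI := EulerIneqLib.isNoetherian_proper (X := X) k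
  obtain ⟨hX, hY, hN, hd⟩ := setup k hdim hnod π U hU
  haveI := hX
  haveI := hY
  have hc := comps_one hdim
  have hx : x ∉ U := fun h => (hU x).1 h hn
  obtain ⟨V, hV, hxV, b, hb, hbU, hden⟩ := exists_nzd_nhd π U hd hUd hUiso hx
  have hreg : ∀ (E : Y.Modules), FlatMod.IsFinLocFree E → ∀ z : ((Scheme.Modules.pushforward π).obj E).presheaf.stalk x,
      X.presheaf.germ V x hxV b • z = 0 → z = 0 := fun E hE z hz => reg_push π U hUd hUiso hxV b hden hE z hz
  have hlen : Module.length (X.presheaf.stalk x)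
      ((pushO π).presheaf.stalk x ⧸ Submodule.span (X.presheaf.stalk x) {oneP π x}) = 1 := by
    rw [length_quot_oneP π hN U hd hUd hUiso x]
    exact DeltaBC.deltaInv_node k hc hn
  have hcot : Module.finrank (ResidueField (X.presheaf.stalk x)) (CotangentSpace (X.presheaf.stalk x)) = 2 :=
    (S11567.result k X hc x hn.1 2 (NormNodeLib.numBranchesAt_node k hc hn)).2
      (by rw [DeltaBC.deltaInv_node k hc hn]; norm_num)
  refine ⟨X.presheaf.germ V x hxV b, ⟨inj_oneP π U hd hUiso x, hb,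
    hreg _ (CurveLib.isFinLocFree_of_isInvertible ParaFLib.isInvertible_structureModule), hlen, ?_⟩,
    NodeMod.length_cotangent hcot, hreg, fun M N _ φ hφ z hz => exists_pow_kill hxV b φ (fun v hv => hφ v (hbU hv)) z hz⟩
  obtain ⟨y, rfl⟩ : x ∈ Set.range π := by
    by_contra hne
    obtain ⟨v, hv, hvU⟩ := hd.inter_open_nonempty _ π.isClosedMap.isClosed_range.isOpen_compl ⟨x, hne⟩
    haveI := hUiso
    obtain ⟨⟨w, hw⟩, hwv⟩ := (π ∣_ U).homeomorph.surjective ⟨v, hvU⟩
    refine hv ⟨w, ?_⟩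
    have := congrArg Subtype.val hwv
    rwa [Scheme.Hom.homeomorph_apply, morphismRestrict_base] at this
  exact notMem_oneP π y

include hdim hnod hU hUiso hUd in
/-- Off the nodes nothing is added. -/
theorem bijective_off (x : X) (hn : ¬ Curv2.IsNode k X x) :
    Function.Bijective (NodeMod.unit (O := X.presheaf.stalk x) (oneP π x) (F.presheaf.stalk x)) := by
  haveI := EulerIneqLib.isNoetherian_proper (X := X) k
  obtain ⟨hX, hY, hN, hd⟩ := setup k hdim hnod π U hU
  haveI := hX
  let E := LinearEquiv.ofBijective _ (bijective_oneP π hN U hd hUd hUiso ((hU x).2 hn))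
  have h : ∀ z, NodeMod.unit (O := X.presheaf.stalk x) (oneP π x) (F.presheaf.stalk x) z =
      ((TensorProduct.lid (X.presheaf.stalk x) (F.presheaf.stalk x)).symm ≪≫ₗ
        TensorProduct.congr E (LinearEquiv.refl _ _)) z := fun z => by
    simp [E]
  exact (funext h) ▸ LinearEquiv.bijective _

include hdim hnod hU hUiso hUd hF hfree htype in
/-- The unit of `π^* ⊣ π_*`. -/
theorem unit_facts :
    Mono ((Scheme.Modules.pullbackPushforwardAdjunction π).unit.app F) ∧
    (∀ x : X, Curv2.IsNode k X x →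
      Module.length (X.presheaf.stalk x)
        ((cokernel ((Scheme.Modules.pullbackPushforwardAdjunction π).unit.app F)).presheaf.stalk x) = ((2 * r - a x : ℕ) : ℕ∞)) ∧
    (∀ x : X, ¬ Curv2.IsNode k X x →
      Subsingleton ((cokernel ((Scheme.Modules.pullbackPushforwardAdjunction π).unit.app F)).presheaf.stalk x)) := by
  haveI := hF.1
  let η := (Scheme.Modules.pullbackPushforwardAdjunction π).unit.app F
  refine ⟨(mono_iff_stalk η).2 fun x => ?_, fun x hn => ?_, fun x hn => ?_⟩
  · obtain ⟨Φ, hΦ⟩ := exists_pushPull_stalk_equiv π x F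
    intro z w hzw
    rw [← hΦ, ← hΦ] at hzw
    by_cases hn : Curv2.IsNode k X x
    · obtain ⟨s, hs, -⟩ := local_at_node k hdim hnod π U hU hUiso hUd x hn
      obtain ⟨e⟩ := (htype x hn).2
      exact hs.unit_injective e (Φ.injective hzw)
    · exact (bijective_off k hdim hnod π U hU hUiso hUd x hn).1 (Φ.injective hzw)
  · obtain ⟨Φ, hΦ⟩ := exists_pushPull_stalk_equiv π x F
    obtain ⟨s, hs, h2, -⟩ := local_at_node k hdim hnod π U hU hUiso hUd x hn
    obtain ⟨hle, ⟨e⟩⟩ := htype x hn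
    have hr : (LinearMap.range (NodeMod.unit (O := X.presheaf.stalk x) (oneP π x) (F.presheaf.stalk x))).map
        Φ.toLinearMap = LinearMap.range (stalkLin η x) := by
      rw [← LinearMap.range_comp]
      exact congrArg LinearMap.range (LinearMap.ext hΦ)
    refine ((cokerStalkEquiv η x).length_eq.symm.trans ((Submodule.Quotient.equiv _ _ Φ hr).length_eq.symm.trans ?_))
    rw [hs.length_unit e h2]
    congr 1
    omega
  · obtain ⟨Φ, hΦ⟩ := exists_pushPull_stalk_equiv π x F
    have hsur : Function.Surjective (stalkLin η x) := fun t => by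
      obtain ⟨z, hz⟩ := (bijective_off k hdim hnod π U hU hUiso hUd x hn).2 (Φ.symm t)
      exact ⟨z, (hΦ z).symm.trans ((congrArg Φ hz).trans (Φ.apply_symm_apply t))⟩
    haveI := Submodule.Quotient.subsingleton_iff.2 (LinearMap.range_eq_top.2 hsur)
    exact (cokerStalkEquiv η x).symm.toEquiv.subsingleton

variable {E₀ : Y.Modules} (hE₀ : FlatMod.IsFinLocFreeOfRank r E₀)
  (p : (Scheme.Modules.pullback π).obj F ⟶ E₀) [Epi p]

include hdim hnod hU hUiso hUd hF hfree htype hE₀ in
/-- The map into the torsion free quotient is a monomorphism, and its data at every point. -/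
theorem beta_local (x : X) :
    ∃ p' : (pushO π).presheaf.stalk x ⊗[X.presheaf.stalk x] F.presheaf.stalk x →ₗ[X.presheaf.stalk x]
        ((Scheme.Modules.pushforward π).obj E₀).presheaf.stalk x,
      Function.Surjective p' ∧
      p' ∘ₗ NodeMod.unit (O := X.presheaf.stalk x) (oneP π x) (F.presheaf.stalk x) =
        stalkLin ((Scheme.Modules.pullbackPushforwardAdjunction π).unit.app F ≫
          (Scheme.Modules.pushforward π).map p) x ∧
      Function.Injective (p' ∘ₗ NodeMod.unit (O := X.presheaf.stalk x) (oneP π x) (F.presheaf.stalk x)) := by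
  haveI := hF.1
  haveI : Coh.IsQCoh ((Scheme.Modules.pullback π).obj F) := PullbackMod.isQCoh_pullback π F
  obtain ⟨hqE, -⟩ := PullbackMod.isQCoh_and_isFP_of_isFinLocFree E₀ (fun y => (hE₀ y).imp fun W h => ⟨r, h⟩)
  let η := (Scheme.Modules.pullbackPushforwardAdjunction π).unit.app F
  let β := η ≫ (Scheme.Modules.pushforward π).map p
  have hinjU : ∀ v ∈ U, Function.Injective (stalkLin β v) := fun v hv => by
    refine (injective_iff_map_eq_zero _).2 fun z hz => ?_
    obtain ⟨Φ, hΦ⟩ := exists_pushPull_stalk_equiv π v F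
    obtain ⟨V1, hv1, m, rfl⟩ := TopCat.Presheaf.exists_germ_eq F.presheaf z
    replace hz := (stalkLin_germ β v hv1 m).symm.trans hz
    let P0 := (Scheme.Modules.pushforward π).obj E₀
    obtain ⟨V2, hv2, i, i', he⟩ := TopCat.Presheaf.germ_eq P0.presheaf v hv1 hv1 _ 0 (hz.trans (map_zero _).symm)
    rw [map_zero] at he
    have hV3 : v ∈ V2 ⊓ U := ⟨hv2, hv⟩
    let m' := F.presheaf.map (homOfLE (inf_le_left.trans i.le : V2 ⊓ U ≤ V1)).op m
    have hηm : η.app (V2 ⊓ U) m' = 0 := by
      let G := (Scheme.Modules.pullback π).obj F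
      refine TopCat.Presheaf.section_ext (⟨G.presheaf, G.isSheaf⟩ : TopCat.Sheaf Ab Y) (π ⁻¹ᵁ (V2 ⊓ U)) _ _ fun w hw => ?_
      refine (FactorBetaLib.injective_stalk π hE₀ p w (hfree _ ((hU _).1 hw.2))) ?_
      refine (stalkLin_germ p w hw _).trans ?_
      refine Eq.trans ?_ (((congrArg (stalkLin p w) (map_zero (G.presheaf.germ _ w hw).hom))).trans (map_zero _)).symm
      have h3 : β.app (V2 ⊓ U) m' = 0 := by
        have hnat := NatTrans.naturality_apply β.mapPresheaf (homOfLE (inf_le_left.trans i.le : V2 ⊓ U ≤ V1)).op m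
        refine hnat.trans ?_
        show P0.presheaf.map _ (β.app V1 m) = 0
        rw [show homOfLE (inf_le_left.trans i.le : V2 ⊓ U ≤ V1) = homOfLE (inf_le_left : V2 ⊓ U ≤ V2) ≫ i from rfl,
          op_comp, Functor.map_comp, CategoryTheory.comp_apply, he, map_zero]
      exact (congrArg (E₀.presheaf.germ (π ⁻¹ᵁ (V2 ⊓ U)) w hw) h3).trans (map_zero _)
    rw [← TopCat.Presheaf.germ_res_apply F.presheaf (homOfLE (inf_le_left.trans i.le : V2 ⊓ U ≤ V1)) v hV3 m]
    apply (bijective_off k hdim hnod π U hU hUiso hUd v ((hU v).1 hv)).1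
    apply Φ.injective
    rw [map_zero, map_zero]
    refine (hΦ _).trans ((stalkLin_germ η v hV3 m').trans ?_)
    exact (congrArg _ hηm).trans (map_zero _)
  obtain ⟨Φ, hΦ⟩ := exists_pushPull_stalk_equiv π x F
  let p' := stalkLin ((Scheme.Modules.pushforward π).map p) x ∘ₗ Φ.toLinearMap
  have hcomp : p' ∘ₗ NodeMod.unit (O := X.presheaf.stalk x) (oneP π x) (F.presheaf.stalk x) = stalkLin β x := by
    refine LinearMap.ext fun z => ?_
    show stalkLin ((Scheme.Modules.pushforward π).map p) x (Φ (oneP π x ⊗ₜ z)) = _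
    rw [hΦ]
    exact (LinearMap.congr_fun (stalkLin_comp η ((Scheme.Modules.pushforward π).map p) x) z).symm
  refine ⟨p', (surjective_stalk_push π inferInstance hqE p x).comp Φ.surjective, hcomp, ?_⟩
  rw [hcomp]
  by_cases hn : Curv2.IsNode k X x
  · obtain ⟨s, hs, -, -, hkill⟩ := local_at_node k hdim hnod π U hU hUiso hUd x hn
    refine (injective_iff_map_eq_zero _).2 fun z hz => ?_
    obtain ⟨n, hn'⟩ := hkill F _ β hinjU z hz
    obtain ⟨e⟩ := (htype x hn).2
    have hO : ∀ c, s * c = 0 → c = 0 := fun c hc => hs.inj c (hs.reg _ (by rw [smul_smul, hc, zero_smul]))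
    have hp : ∀ (j : ℕ) c, s ^ j * c = 0 → c = 0 := fun j => by
      induction j with
      | zero => intro c hc; simpa using hc
      | succ j ih => intro c hc; exact hO c (ih _ (by rw [← mul_assoc, ← pow_succ]; exact hc))
    have h1 : s ^ n • e z = 0 := by rw [← map_smul, hn', map_zero]
    exact e.map_eq_zero_iff.1 (Prod.ext (funext fun i => hp n _ (congrFun (congrArg Prod.fst h1) i))
      (funext fun i => Subtype.ext (hp n _ (congrArg Subtype.val (congrFun (congrArg Prod.snd h1) i)))))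
  · exact hinjU x ((hU x).2 hn)

include hdim hnod hU hUiso hUd hF hfree htype hE₀ in
/-- The map into the torsion free quotient. -/
theorem beta_facts :
    Mono ((Scheme.Modules.pullbackPushforwardAdjunction π).unit.app F ≫ (Scheme.Modules.pushforward π).map p) ∧
    (∀ x : X, Curv2.IsNode k X x →
      Module.length (X.presheaf.stalk x)
        ((cokernel ((Scheme.Modules.pullbackPushforwardAdjunction π).unit.app F ≫
          (Scheme.Modules.pushforward π).map p)).presheaf.stalk x) = (a x : ℕ∞)) ∧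
    (∀ x : X, ¬ Curv2.IsNode k X x →
      Subsingleton ((cokernel ((Scheme.Modules.pullbackPushforwardAdjunction π).unit.app F ≫
          (Scheme.Modules.pushforward π).map p)).presheaf.stalk x)) := by
  have hb := beta_local k hdim hnod π U hU hUiso hUd r hF a hfree htype hE₀ p
  refine ⟨(mono_iff_stalk _).2 fun x => ?_, fun x hn => ?_, fun x hn => ?_⟩
  · obtain ⟨p', -, hc, hi⟩ := hb x
    exact hc ▸ hi
  · obtain ⟨p', hp, hc, hi⟩ := hb x
    obtain ⟨s, hs, -, hreg, -⟩ := local_at_node k hdim hnod π U hU hUiso hUd x hn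
    obtain ⟨e⟩ := (htype x hn).2
    rw [← (cokerStalkEquiv _ x).length_eq, ← hc]
    exact hs.length_quot e p' hp (hreg E₀ fun y => (hE₀ y).imp fun W h => ⟨r, h⟩) hi
  · obtain ⟨p', hp, hc, hi⟩ := hb x
    have hsur := hp.comp (bijective_off (F := F) k hdim hnod π U hU hUiso hUd x hn).2
    rw [← LinearMap.coe_comp, hc] at hsur
    haveI := Submodule.Quotient.subsingleton_iff.2 (LinearMap.range_eq_top.2 hsur)
    exact (cokerStalkEquiv _ x).symm.toEquiv.subsingleton

include hdim hnod hU hUiso hUd hF hfree htype hE₀ in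
/-- Lengths of cokernels for a monomorphism factoring through the torsion free quotient. -/
theorem factor_facts {E : Y.Modules} (i : F ⟶ (Scheme.Modules.pushforward π).obj E) [Mono i] (lam : E₀ ⟶ E)
    (hlam : (Scheme.Modules.pullbackPushforwardAdjunction π).unit.app F ≫
      (Scheme.Modules.pushforward π).map p ≫ (Scheme.Modules.pushforward π).map lam = i) :
    (∀ x : X, Curv2.IsNode k X x →
      Module.length (X.presheaf.stalk x) ((cokernel i).presheaf.stalk x) =
        (a x : ℕ∞) + Module.length (X.presheaf.stalk x)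
          ((cokernel ((Scheme.Modules.pushforward π).map lam)).presheaf.stalk x)) ∧
    (∀ x : X, ¬ Curv2.IsNode k X x →
      Module.length (X.presheaf.stalk x) ((cokernel i).presheaf.stalk x) =
        Module.length (X.presheaf.stalk x)
          ((cokernel ((Scheme.Modules.pushforward π).map lam)).presheaf.stalk x)) := by
  have hb := beta_local k hdim hnod π U hU hUiso hUd r hF a hfree htype hE₀ p
  have hix : ∀ x, stalkLin i x = stalkLin ((Scheme.Modules.pushforward π).map lam) x ∘ₗ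
      stalkLin ((Scheme.Modules.pullbackPushforwardAdjunction π).unit.app F ≫
        (Scheme.Modules.pushforward π).map p) x := fun x => by
    subst hlam
    rw [← Category.assoc]
    exact stalkLin_comp _ _ x
  refine ⟨fun x hn => ?_, fun x hn => ?_⟩
  · obtain ⟨p', hp, hc, hi⟩ := hb x
    obtain ⟨s, hs, -, hreg, -⟩ := local_at_node k hdim hnod π U hU hUiso hUd x hn
    obtain ⟨e⟩ := (htype x hn).2
    have h := hs.length_factor e p' hp (hreg E₀ fun y => (hE₀ y).imp fun W h => ⟨r, h⟩) hi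
      (stalkLin ((Scheme.Modules.pushforward π).map lam) x) (by rw [hc, ← hix x]; exact (mono_iff_stalk i).1 inferInstance x)
    rw [hc, ← hix x] at h
    rw [← (cokerStalkEquiv i x).length_eq, ← (cokerStalkEquiv ((Scheme.Modules.pushforward π).map lam) x).length_eq]
    exact h
  · obtain ⟨p', hp, hc, hi⟩ := hb x
    have hsur := hp.comp (bijective_off (F := F) k hdim hnod π U hU hUiso hUd x hn).2
    rw [← LinearMap.coe_comp, hc] at hsur
    have hr : LinearMap.range (stalkLin i x) = LinearMap.range (stalkLin ((Scheme.Modules.pushforward π).map lam) x) := by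
      rw [hix x]
      exact LinearMap.range_comp_of_range_eq_top _ (LinearMap.range_eq_top.2 hsur)
    rw [← (cokerStalkEquiv i x).length_eq, ← (cokerStalkEquiv ((Scheme.Modules.pushforward π).map lam) x).length_eq]
    exact (Submodule.quotEquivOfEq _ _ hr).length_eq

end Nodal

end Groth.Agent.TFNodeLib
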