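import Mathlib

/-!
# Modules over a node: extension of scalars to the normalization
-/

set_option autoImplicit false
set_option linter.style.haveILetI false
set_option maxHeartbeats 400000

universe u

open IsLocalRing
open scoped TensorProduct

noncomputable section

namespace Groth.Agent.TFNodeLib

variable {O : Type u} [CommRing O] [IsLocalRing O] {P : Type u} [AddCommGroup P] [Module O P]

/-- What is used of the normalization `P` of a node `O`: it is bigger by a module of length one, with the
maximal ideal as the conductor, and `s` is regular on it. -/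
structure NodeMod (one : P) (s : O) : Prop where
  inj : ∀ r : O, r • one = 0 → r = 0
  mem : s ∈ maximalIdeal O
  reg : ∀ p : P, s • p = 0 → p = 0
  len : Module.length O (P ⧸ Submodule.span O {one}) = 1
  notMem : one ∉ maximalIdeal O • (⊤ : Submodule O P)

variable {one : P} {s : O}

namespace NodeMod

variable (h : NodeMod one s)

include h in
theorem smul_mem {m : O} (hm : m ∈ maximalIdeal O) (p : P) : m • p ∈ Submodule.span O {one} := by
  haveI : IsSimpleModule O (P ⧸ Submodule.span O {one}) := Module.length_eq_one_iff.1 h.len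
  haveI : IsSemisimpleModule O (P ⧸ Submodule.span O {one}) := inferInstance
  have hmax : (Module.annihilator O (P ⧸ Submodule.span O {one})).IsMaximal :=
    IsSimpleModule.annihilator_isMaximal
  rw [← eq_maximalIdeal hmax, Module.mem_annihilator] at hm
  exact (Submodule.Quotient.mk_eq_zero _).1 ((Submodule.Quotient.mk_smul _ m p).trans (hm _))

include h in
theorem exists_smul_one {m : O} (hm : m ∈ maximalIdeal O) (p : P) : ∃ r ∈ maximalIdeal O, r • one = m • p := by
  obtain ⟨r, hr⟩ := Submodule.mem_span_singleton.1 (h.smul_mem hm p)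
  refine ⟨r, ?_, hr⟩
  rw [mem_maximalIdeal, mem_nonunits_iff]
  intro hu
  obtain ⟨v, rfl⟩ := hu
  refine h.notMem ?_
  have h1 : one = (↑v⁻¹ : O) • m • p := by rw [← hr, smul_smul, Units.inv_mul, one_smul]
  rw [h1]
  exact Submodule.smul_mem _ _ (Submodule.smul_mem_smul hm Submodule.mem_top)

variable {F : Type u} [AddCommGroup F] [Module O F]

/-- The unit of extension of scalars. -/
abbrev unit (one : P) (F : Type u) [AddCommGroup F] [Module O F] : F →ₗ[O] P ⊗[O] F :=
  TensorProduct.mk O P F one

include h in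
theorem smul_mem_range (z : P ⊗[O] F) : s • z ∈ LinearMap.range (unit (O := O) one F) := by
  induction z using TensorProduct.induction_on with
  | zero => rw [smul_zero]; exact zero_mem _
  | add a b ha hb => rw [smul_add]; exact add_mem ha hb
  | tmul p f =>
    obtain ⟨r, -, hr⟩ := h.exists_smul_one h.mem p
    exact ⟨r • f, by rw [TensorProduct.smul_tmul', ← hr, TensorProduct.smul_tmul]; rfl⟩

variable {a b : ℕ} (e : F ≃ₗ[O] (Fin a → O) × (Fin b → maximalIdeal O))

/-- The coordinates of `F` as a submodule of a free module, after extension of scalars. -/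
def coord : P ⊗[O] F →ₗ[O] (Fin a → P) × (Fin b → P) :=
  LinearMap.prod
    (LinearMap.pi fun i => (TensorProduct.rid O P).toLinearMap ∘ₗ
      LinearMap.lTensor P (LinearMap.proj i ∘ₗ LinearMap.fst O _ _ ∘ₗ e.toLinearMap))
    (LinearMap.pi fun j => (TensorProduct.rid O P).toLinearMap ∘ₗ
      LinearMap.lTensor P ((maximalIdeal O).subtype ∘ₗ LinearMap.proj j ∘ₗ LinearMap.snd O _ _ ∘ₗ e.toLinearMap))

theorem coord_fst (p : P) (f : F) (i : Fin a) : (coord e (p ⊗ₜ f)).1 i = (e f).1 i • p := rfl

theorem coord_snd (p : P) (f : F) (j : Fin b) : (coord e (p ⊗ₜ f)).2 j = ((e f).2 j).1 • p := rfl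

include h in
theorem coord_unit_injective (f : F) (hf : coord e (unit (O := O) one F f) = 0) : f = 0 := by
  refine e.map_eq_zero_iff.1 (Prod.ext (funext fun i => h.inj _ ?_) (funext fun j => Subtype.ext (h.inj _ ?_)))
  · rw [← coord_fst e one f i]
    exact congrFun (congrArg Prod.fst hf) i
  · rw [← coord_snd e one f j]
    exact congrFun (congrArg Prod.snd hf) j

include h e in
theorem unit_injective : Function.Injective (unit (O := O) one F) := by
  refine (injective_iff_map_eq_zero _).2 fun f hf => h.coord_unit_injective e f ?_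
  rw [hf, map_zero]

include h in
theorem coord_snd_mem (z : P ⊗[O] F) (j : Fin b) : ∃ r ∈ maximalIdeal O, r • one = (coord e z).2 j := by
  induction z using TensorProduct.induction_on with
  | zero => exact ⟨0, zero_mem _, by simp⟩
  | add x y hx hy =>
    obtain ⟨r, hr, hr'⟩ := hx
    obtain ⟨t, ht, ht'⟩ := hy
    exact ⟨r + t, add_mem hr ht, by rw [add_smul, hr', ht', map_add]; rfl⟩
  | tmul p f =>
    obtain ⟨r, hr, hr'⟩ := h.exists_smul_one ((e f).2 j).2 p
    exact ⟨r, hr, hr'.trans (coord_snd e p f j).symm⟩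

include h in
theorem ker_coord (z : P ⊗[O] F) : coord e z = 0 ↔ s • z = 0 := by
  constructor
  · intro hz
    obtain ⟨w, hw⟩ := h.smul_mem_range z
    have hw0 : w = 0 := h.coord_unit_injective e w (by rw [hw, map_smul, hz, smul_zero])
    rw [← hw, hw0, map_zero]
  · intro hz
    have h1 : s • coord e z = 0 := by rw [← map_smul, hz, map_zero]
    exact Prod.ext (funext fun i => h.reg _ (congrFun (congrArg Prod.fst h1) i))
      (funext fun j => h.reg _ (congrFun (congrArg Prod.snd h1) j))

include h e in
theorem surjective_free_part (y : Fin a → P) : ∃ z : P ⊗[O] F, (coord e z).1 = y := by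
  classical
  refine ⟨∑ i, y i ⊗ₜ e.symm (Pi.single i 1, 0), funext fun l => ?_⟩
  rw [map_sum, Prod.fst_sum, Finset.sum_apply, Finset.sum_eq_single l]
  · rw [coord_fst, e.apply_symm_apply]
    dsimp only
    rw [Pi.single_eq_same, one_smul]
  · intro i _ hi
    rw [coord_fst, e.apply_symm_apply]
    dsimp only
    rw [Pi.single_eq_of_ne (Ne.symm hi), zero_smul]
  · exact fun hl => absurd (Finset.mem_univ l) hl

variable {T : Type u} [AddCommGroup T] [Module O T] (p : P ⊗[O] F →ₗ[O] T) (hp : Function.Surjective p)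
  (hT : ∀ t : T, s • t = 0 → t = 0) (hβ : Function.Injective (p ∘ₗ unit (O := O) one F))

include h hT hβ in
theorem ker_quot (z : P ⊗[O] F) : p z = 0 ↔ s • z = 0 := by
  constructor
  · intro hz
    obtain ⟨w, hw⟩ := h.smul_mem_range z
    have hw0 : w = 0 := hβ (by rw [LinearMap.comp_apply, hw, map_smul, hz, smul_zero, map_zero])
    rw [← hw, hw0, map_zero]
  · intro hz
    exact hT _ (by rw [← map_smul, hz, map_zero])

include h e hp hT hβ in
/-- The cokernel of `F` in the torsion free quotient of its extension has length the number of free factors. -/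
theorem length_quot : Module.length O (T ⧸ LinearMap.range (p ∘ₗ unit (O := O) one F)) = a := by
  let f : P ⊗[O] F →ₗ[O] T ⧸ LinearMap.range (p ∘ₗ unit (O := O) one F) := (Submodule.mkQ _) ∘ₗ p
  let g : P ⊗[O] F →ₗ[O] Fin a → P ⧸ Submodule.span O {one} :=
    LinearMap.pi fun i => (Submodule.mkQ _) ∘ₗ LinearMap.proj i ∘ₗ LinearMap.fst O _ _ ∘ₗ coord e
  have hf : Function.Surjective f := (Submodule.mkQ_surjective _).comp hp
  have hg : Function.Surjective g := fun y => by
    choose q hq using fun i => Submodule.Quotient.mk_surjective _ (y i)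
    obtain ⟨z, hz⟩ := h.surjective_free_part e q
    exact ⟨z, funext fun i => by
      show Submodule.Quotient.mk ((coord e z).1 i) = y i
      rw [hz, hq]⟩
  have hk : LinearMap.ker f = LinearMap.ker g := by
    ext z
    rw [LinearMap.mem_ker, LinearMap.mem_ker]
    constructor
    · intro hz
      obtain ⟨w, hw⟩ := (Submodule.Quotient.mk_eq_zero _).1 hz
      have h1 : coord e (z - unit (O := O) one F w) = 0 := (h.ker_coord e _).2 ((h.ker_quot p hT hβ _).1 (by
        rw [map_sub, sub_eq_zero]
        exact hw.symm))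
      rw [map_sub, sub_eq_zero] at h1
      funext i
      show Submodule.Quotient.mk ((coord e z).1 i) = 0
      rw [Submodule.Quotient.mk_eq_zero, h1]
      exact Submodule.mem_span_singleton.2 ⟨(e w).1 i, (coord_fst e one w i).symm⟩
    · intro hz
      choose r hr using fun i => Submodule.mem_span_singleton.1
        ((Submodule.Quotient.mk_eq_zero _).1 (congrFun hz i))
      choose t ht ht' using h.coord_snd_mem e z
      let w := e.symm (r, fun j => ⟨t j, ht j⟩)
      have h1 : coord e (z - unit (O := O) one F w) = 0 := by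
        rw [map_sub, sub_eq_zero]
        refine Prod.ext (funext fun i => ?_) (funext fun j => ?_)
        · show (coord e z).1 i = (coord e (one ⊗ₜ w)).1 i
          rw [coord_fst, e.apply_symm_apply]
          exact (hr i).symm
        · show (coord e z).2 j = (coord e (one ⊗ₜ w)).2 j
          rw [coord_snd, e.apply_symm_apply]
          exact (ht' j).symm
      have h2 := (h.ker_quot p hT hβ _).2 ((h.ker_coord e _).1 h1)
      rw [map_sub, sub_eq_zero] at h2
      exact (Submodule.Quotient.mk_eq_zero _).2 ⟨w, h2.symm⟩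
  have E : (T ⧸ LinearMap.range (p ∘ₗ unit (O := O) one F)) ≃ₗ[O] (Fin a → P ⧸ Submodule.span O {one}) :=
    (f.quotKerEquivOfSurjective hf).symm ≪≫ₗ Submodule.quotEquivOfEq _ _ hk ≪≫ₗ g.quotKerEquivOfSurjective hg
  rw [E.length_eq, Module.length_pi_of_fintype]
  simp [h.len]

omit [IsLocalRing O] in
theorem length_cotangent [IsLocalRing O] (h2 : Module.finrank (ResidueField O) (CotangentSpace O) = 2)
    [Module.Finite (ResidueField O) (CotangentSpace O)] :
    Module.length O ((O ⧸ maximalIdeal O) ⊗[O] maximalIdeal O) = 2 := by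
  let e1 : (O ⧸ maximalIdeal O) ⊗[O] maximalIdeal O ≃ₗ[O] CotangentSpace O :=
    TensorProduct.quotTensorEquivQuotSMul (maximalIdeal O) (maximalIdeal O)
  rw [e1.length_eq]
  have : Module.length O (CotangentSpace O) = Module.length (ResidueField O) (CotangentSpace O) :=
    Module.length_eq_of_surjective (residue_surjective (R := O))
  rw [this, Module.length_eq_finrank, h2]
  rfl

include h e in
/-- The cokernel of the unit of extension of scalars. -/
theorem length_unit (h2 : Module.length O ((O ⧸ maximalIdeal O) ⊗[O] maximalIdeal O) = 2) :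
    Module.length O ((P ⊗[O] F) ⧸ LinearMap.range (unit (O := O) one F)) = (a + 2 * b : ℕ) := by
  let i : O →ₗ[O] P := LinearMap.toSpanSingleton O P one
  have hr : LinearMap.range (unit (O := O) one F) = LinearMap.range (i.rTensor F) := by
    apply le_antisymm
    · rintro _ ⟨f, rfl⟩
      exact ⟨1 ⊗ₜ f, by simp [i]⟩
    · rintro _ ⟨z, rfl⟩
      induction z using TensorProduct.induction_on with
      | zero => rw [map_zero]; exact zero_mem _
      | add x y hx hy => rw [map_add]; exact add_mem hx hy
      | tmul r f => exact ⟨r • f, by simp [i, TensorProduct.smul_tmul]⟩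
  let q := (Submodule.span O {one}).mkQ
  have hex : Function.Exact i q := fun p => by
    rw [Submodule.mkQ_apply, Submodule.Quotient.mk_eq_zero, ← LinearMap.range_toSpanSingleton]
    rfl
  haveI : IsSimpleModule O (P ⧸ Submodule.span O {one}) := Module.length_eq_one_iff.1 h.len
  obtain ⟨E0⟩ : Nonempty ((P ⧸ Submodule.span O {one}) ≃ₗ[O] O ⧸ maximalIdeal O) := by
    obtain ⟨I, hI, ⟨E⟩⟩ := isSimpleModule_iff_quot_maximal.1
      (inferInstance : IsSimpleModule O (P ⧸ Submodule.span O {one}))
    exact ⟨(eq_maximalIdeal hI) ▸ E⟩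
  let E1 : ((P ⊗[O] F) ⧸ LinearMap.range (unit (O := O) one F)) ≃ₗ[O] (O ⧸ maximalIdeal O) ⊗[O] F :=
    Submodule.quotEquivOfEq _ _ (hr.trans (rTensor_exact F hex (Submodule.mkQ_surjective _)).linearMap_ker_eq.symm) ≪≫ₗ
      (q.rTensor F).quotKerEquivOfSurjective (LinearMap.rTensor_surjective F (Submodule.mkQ_surjective _)) ≪≫ₗ
      TensorProduct.congr E0 (LinearEquiv.refl O F)
  let E2 : (O ⧸ maximalIdeal O) ⊗[O] F ≃ₗ[O]
      (Fin a → O ⧸ maximalIdeal O) × (Fin b → (O ⧸ maximalIdeal O) ⊗[O] maximalIdeal O) :=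
    TensorProduct.congr (LinearEquiv.refl O _) e ≪≫ₗ TensorProduct.prodRight O O _ _ _ ≪≫ₗ
      LinearEquiv.prodCongr (TensorProduct.piScalarRight O O _ (Fin a))
        (TensorProduct.piRight O O _ fun _ => maximalIdeal O)
  haveI : IsSimpleModule O (O ⧸ maximalIdeal O) := isSimpleModule_iff_isCoatom.2
    (Ideal.isMaximal_def.1 (maximalIdeal.isMaximal O))
  rw [(E1 ≪≫ₗ E2).length_eq, Module.length_prod, Module.length_pi_of_fintype, Module.length_pi_of_fintype]
  simp only [Module.length_eq_one, h2, Finset.sum_const, Finset.card_univ, Fintype.card_fin]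
  push_cast
  simp [mul_comm]

variable {T' : Type u} [AddCommGroup T'] [Module O T'] (μ : T →ₗ[O] T')
  (hi : Function.Injective (μ ∘ₗ p ∘ₗ unit (O := O) one F))

include h e hp hT hβ hi in
/-- Lengths of cokernels along a factorisation. -/
theorem length_factor :
    Module.length O (T' ⧸ LinearMap.range (μ ∘ₗ p ∘ₗ unit (O := O) one F)) = a + Module.length O (T' ⧸ LinearMap.range μ) := by
  have hμ : Function.Injective μ := (injective_iff_map_eq_zero _).2 fun t ht => by
    obtain ⟨z, rfl⟩ := hp t
    obtain ⟨w, hw⟩ := h.smul_mem_range z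
    have hw0 : w = 0 := hi (by
      rw [LinearMap.comp_apply, LinearMap.comp_apply, hw, map_smul, map_smul, ht, smul_zero, map_zero])
    exact hT _ (by rw [← map_smul, ← hw, hw0, map_zero, map_zero])
  let N := LinearMap.range (p ∘ₗ unit (O := O) one F)
  let N' := LinearMap.range (μ ∘ₗ p ∘ₗ unit (O := O) one F)
  have hN : N ≤ N'.comap μ := by
    rintro _ ⟨w, rfl⟩; exact ⟨w, rfl⟩
  have hN' : N' ≤ LinearMap.range μ := by
    rintro _ ⟨w, rfl⟩; exact ⟨_, rfl⟩
  let α : T ⧸ N →ₗ[O] T' ⧸ N' := N.mapQ N' μ hN
  let β : T' ⧸ N' →ₗ[O] T' ⧸ LinearMap.range μ := Submodule.factor hN'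
  have hα : Function.Injective α := (injective_iff_map_eq_zero _).2 fun x hx => by
    obtain ⟨t, rfl⟩ := Submodule.Quotient.mk_surjective _ x
    obtain ⟨w, hw⟩ := (Submodule.Quotient.mk_eq_zero _).1 hx
    exact (Submodule.Quotient.mk_eq_zero _).2 ⟨w, hμ hw⟩
  have hex : Function.Exact α β := fun y => by
    obtain ⟨t', rfl⟩ := Submodule.Quotient.mk_surjective _ y
    constructor
    · intro hy
      obtain ⟨t, rfl⟩ := (Submodule.Quotient.mk_eq_zero _).1 hy
      exact ⟨Submodule.Quotient.mk t, rfl⟩
    · rintro ⟨x, hx⟩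
      obtain ⟨t, rfl⟩ := Submodule.Quotient.mk_surjective _ x
      rw [← hx]
      exact (Submodule.Quotient.mk_eq_zero _).2 ⟨t, rfl⟩
  rw [Module.length_eq_add_of_exact α β hα (Submodule.factor_surjective hN') hex]
  exact congrArg (· + _) (h.length_quot e p hp hT hβ)

end NodeMod

end Groth.Agent.TFNodeLib
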